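import Cfsg.Agent.Lib.HN.Split
import Cfsg.Agent.Lib.HN.EnumB.Data

/-! Generated certificate. -/

set_option autoImplicit false
set_option maxRecDepth 100000
set_option maxHeartbeats 0
set_option Elab.async false

namespace Cfsg.Lib.HN.EnumB

open Cfsg.Lib.CosetEnum (Tab)

theorem closed_0 : closedOK cert.F cert.Rep cert.Z cert.P (cert.d + cert.e) cert.n cert.S 1500 0 = true := by decide +kernel

theorem closed_1 : closedOK cert.F cert.Rep cert.Z cert.P (cert.d + cert.e) cert.n cert.S 1500 1500 = true := by decide +kernel

theorem closed_2 : closedOK cert.F cert.Rep cert.Z cert.P (cert.d + cert.e) cert.n cert.S 1500 3000 = true := by decide +kernel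

end Cfsg.Lib.HN.EnumB
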