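import Cfsg.Agent.Lib.HN.Split
import Cfsg.Agent.Lib.HN.EnumB.Data

/-! Generated certificate. -/

set_option autoImplicit false
set_option maxRecDepth 100000
set_option maxHeartbeats 0
set_option Elab.async false

namespace Cfsg.Lib.HN.EnumB

open Cfsg.Lib.CosetEnum (Tab)

theorem defs_12 : defsOK cert.F 1500 18000 = true := by decide +kernel

theorem defs_13 : defsOK cert.F 1500 19500 = true := by decide +kernel

theorem defs_14 : defsOK cert.F 1500 21000 = true := by decide +kernel

end Cfsg.Lib.HN.EnumB
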