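import Cfsg.Agent.Lib.HN.EnumB.Data

/-! Generated certificate. -/

set_option autoImplicit false
set_option maxRecDepth 100000
set_option maxHeartbeats 0
set_option Elab.async false

namespace Cfsg.Lib.HN.EnumB

open Cfsg.Lib.CosetEnum (Tab)

theorem steps_1 : stepsOK cert.R cert.U cert.F cert.C cert.d 8000 8000 = true := by
  decide +kernel

end Cfsg.Lib.HN.EnumB
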