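import Cfsg.Agent.Lib.HN.Split
import Cfsg.Agent.Lib.HN.EnumB.Steps0
import Cfsg.Agent.Lib.HN.EnumB.Steps1
import Cfsg.Agent.Lib.HN.EnumB.Steps2
import Cfsg.Agent.Lib.HN.EnumB.Steps3
import Cfsg.Agent.Lib.HN.EnumB.Steps4

import Cfsg.Agent.Lib.HN.EnumB.Part_defs0
import Cfsg.Agent.Lib.HN.EnumB.Part_defs1
import Cfsg.Agent.Lib.HN.EnumB.Part_defs2
import Cfsg.Agent.Lib.HN.EnumB.Part_defs3
import Cfsg.Agent.Lib.HN.EnumB.Part_defs4
import Cfsg.Agent.Lib.HN.EnumB.Part_defs5
import Cfsg.Agent.Lib.HN.EnumB.Part_defs6
import Cfsg.Agent.Lib.HN.EnumB.Part_defs7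
import Cfsg.Agent.Lib.HN.EnumB.Part_closed0
import Cfsg.Agent.Lib.HN.EnumB.Part_closed1
import Cfsg.Agent.Lib.HN.EnumB.Part_closed2
import Cfsg.Agent.Lib.HN.EnumB.Part_perm0
import Cfsg.Agent.Lib.HN.EnumB.Part_perm1
import Cfsg.Agent.Lib.HN.EnumB.Part_perm2

/-! Generated certificate. -/

set_option autoImplicit false
set_option maxRecDepth 100000
set_option maxHeartbeats 0
set_option Elab.async false

namespace Cfsg.Lib.HN.EnumB

open Cfsg.Lib.CosetEnum (Tab)

theorem valid : cert.Valid rels where
  pos := by decide +kernel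
  shifts := by decide +kernel
  defs := by have h := (defsOK_append defs_0 (defsOK_append defs_1 (defsOK_append defs_2 (defsOK_append defs_3 (defsOK_append defs_4 (defsOK_append defs_5 (defsOK_append defs_6 (defsOK_append defs_7 (defsOK_append defs_8 (defsOK_append defs_9 (defsOK_append defs_10 (defsOK_append defs_11 (defsOK_append defs_12 (defsOK_append defs_13 (defsOK_append defs_14 (defsOK_append defs_15 (defsOK_append defs_16 (defsOK_append defs_17 (defsOK_append defs_18 (defsOK_append defs_19 (defsOK_append defs_20 defs_21))))))))))))))))))))); exact h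
  steps := by have h := (stepsOK_append steps_0 (stepsOK_append steps_1 (stepsOK_append steps_2 (stepsOK_append steps_3 steps_4)))); exact h
  closed := by have h := (closedOK_append closed_0 (closedOK_append closed_1 (closedOK_append closed_2 (closedOK_append closed_3 (closedOK_append closed_4 (closedOK_append closed_5 (closedOK_append closed_6 (closedOK_append closed_7 closed_8)))))))); exact h

theorem perm_ok : permOK tabP 12600 [0, 1, 4, 5] rels 12600 0 = true := by
  have h := (permOK_append perm_0 (permOK_append perm_1 (permOK_append perm_2 (permOK_append perm_3 (permOK_append perm_4 (permOK_append perm_5 (permOK_append perm_6 (permOK_append perm_7 perm_8))))))))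
  exact h

end Cfsg.Lib.HN.EnumB
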